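import Mathlib.Algebra.Group.Action.Defs
import Mathlib.GroupTheory.GroupAction.Basic
import Mathlib.Data.Nat.Bitwise

/-!
# Verified coset-table deduction certificates

A table `tbl i g` on `i < n`, `g < ng` is given, together with representative words and a list of
deductions. If a group `M` acts on `X`, `x₀ : X`, and each relator word fixes every point
(resp. each subgroup word fixes `x₀`), then a successful run of `check` shows that the points
`φ i = act (rep i) • x₀` are permuted by the generators as prescribed by the table.
-/

set_option autoImplicit false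

namespace CfsgLib.CosetCert

/-- Certificate data: `n` points, `ng` generator labels, inverse labels, the table, the words of
the representatives, the relators and the subgroup words. -/
structure Data where
  n : ℕ
  ng : ℕ
  iv : ℕ → ℕ
  tbl : ℕ → ℕ → ℕ
  rep : ℕ → List ℕ
  rels : List (List ℕ)
  subs : List (List ℕ)

variable (C : Data)

def bit (i g : ℕ) : ℕ := i * C.ng + g

/-- Follow a word through known edges only. -/
def walk (K : ℕ) : ℕ → List ℕ → Option ℕ
  | i, [] => some i
  | i, g :: w =>
    if decide (i < C.n) && decide (g < C.ng) && K.testBit (bit C i g) then walk K (C.tbl i g) w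
    else none

/-- Mark the edge `x —g→ y` and its inverse. -/
def mark (K x g : ℕ) : Option ℕ :=
  let y := C.tbl x g
  if decide (x < C.n) && decide (g < C.ng) && decide (y < C.n) && decide (C.iv g < C.ng) &&
      decide (C.tbl y (C.iv g) = x) then
    some ((K ||| 2 ^ bit C x g) ||| 2 ^ bit C y (C.iv g))
  else none

/-- A tree edge. -/
def treeStep (K : ℕ) (e : ℕ × ℕ) : Option ℕ :=
  if decide (C.rep (C.tbl e.1 e.2) = C.rep e.1 ++ [e.2]) then mark C K e.1 e.2 else none

/-- Deduction of the edge at position `k` of the word `w` started at `i`. -/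
def deduce (K i : ℕ) (w : List ℕ) (k : ℕ) : Option ℕ :=
  match walk C K i (w.take k), w.drop k with
  | some x, g :: post =>
    if walk C K (C.tbl x g) post = some i then mark C K x g else none
  | _, _ => none

/-- The word with index `r`, if it may be used at `i`. -/
def word (i r : ℕ) : Option (List ℕ) :=
  if r < C.rels.length then C.rels[r]? else if i = 0 then C.subs[r - C.rels.length]? else none

/-- A deduction step. -/
def dedStep (K : ℕ) (s : ℕ × ℕ × ℕ) : Option ℕ :=
  match word C s.1 s.2.1 with
  | some w => deduce C K s.1 w s.2.2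
  | none => none

def runTree : ℕ → List (ℕ × ℕ) → Option ℕ
  | K, [] => some K
  | K, e :: l => match treeStep C K e with
    | some K' => runTree K' l
    | none => none

def runDed : ℕ → List (ℕ × ℕ × ℕ) → Option ℕ
  | K, [] => some K
  | K, e :: l => match dedStep C K e with
    | some K' => runDed K' l
    | none => none

/-- The whole check. -/
def check (tree : List (ℕ × ℕ)) (steps : List (ℕ × ℕ × ℕ)) : Bool :=
  match runTree C 0 tree with
  | some K => match runDed C K steps with
    | some K' => decide (K' = 2 ^ (C.n * C.ng) - 1) && decide (C.rep 0 = [])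
    | none => false
  | none => false

section Sound

variable {M X : Type*} [Group M] [MulAction M X] (gen : ℕ → M)

/-- The group element of a word; the head acts first. -/
def act : List ℕ → M
  | [] => 1
  | g :: w => act w * gen g

@[simp] theorem act_nil : act gen [] = 1 := rfl

theorem act_cons (g : ℕ) (w : List ℕ) : act gen (g :: w) = act gen w * gen g := rfl

/-- The defining equation of `act`, stated here so that its auxiliary lemmas are generated once,
in this module. -/
theorem act_unfold_nil : act gen [] = 1 := by rw [act.eq_def]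

theorem act_unfold_cons (g : ℕ) (w : List ℕ) : act gen (g :: w) = act gen w * gen g := by
  simp [act]

theorem act_append (u w : List ℕ) : act gen (u ++ w) = act gen w * act gen u := by
  induction u with
  | nil => simp
  | cons g u ih => rw [List.cons_append, act_cons, act_cons, ih, mul_assoc]

variable (x₀ : X)

/-- The point attached to `i`. -/
def pt (i : ℕ) : X := act gen (C.rep i) • x₀

/-- All known edges are correct. -/
def Good (K : ℕ) : Prop :=
  ∀ i g, i < C.n → g < C.ng → K.testBit (bit C i g) = true →
    C.tbl i g < C.n ∧ gen g • pt C gen x₀ i = pt C gen x₀ (C.tbl i g)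

variable {C gen x₀}

theorem walk_sound {K : ℕ} (hK : Good C gen x₀ K) :
    ∀ {w : List ℕ} {i j : ℕ}, walk C K i w = some j →
      act gen w • pt C gen x₀ i = pt C gen x₀ j
  | [], i, j, h => by simp only [walk, Option.some.injEq] at h; simp [h]
  | g :: w, i, j, h => by
    simp only [walk] at h
    split at h
    · rename_i hc
      simp only [Bool.and_eq_true, decide_eq_true_eq] at hc
      rw [act_cons, mul_smul, (hK i g hc.1.1 hc.1.2 hc.2).2]
      exact walk_sound hK h
    · simp at h

theorem bit_inj {i g i' g' : ℕ} (hg : g < C.ng) (hg' : g' < C.ng)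
    (h : bit C i g = bit C i' g') : i = i' ∧ g = g' := by
  unfold bit at h
  have h1 : (i * C.ng + g) / C.ng = (i' * C.ng + g') / C.ng := by rw [h]
  rw [Nat.mul_comm i, Nat.mul_comm i', Nat.mul_add_div (by omega), Nat.mul_add_div (by omega),
    Nat.div_eq_of_lt hg, Nat.div_eq_of_lt hg', Nat.add_zero, Nat.add_zero] at h1
  subst h1
  exact ⟨rfl, by omega⟩

theorem mark_sound (hiv : ∀ g, g < C.ng → gen (C.iv g) = (gen g)⁻¹) {K K' x g : ℕ}
    (hK : Good C gen x₀ K) (h : mark C K x g = some K')
    (hed : gen g • pt C gen x₀ x = pt C gen x₀ (C.tbl x g)) : Good C gen x₀ K' := by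
  simp only [mark] at h
  split at h
  · rename_i hc
    simp only [Bool.and_eq_true, decide_eq_true_eq] at hc
    obtain ⟨⟨⟨⟨hx, hg⟩, hy⟩, hig⟩, hback⟩ := hc
    rw [Option.some.injEq] at h
    subst h
    intro i g' hi hg' hb
    simp only [Nat.testBit_or, Bool.or_eq_true, Nat.testBit_two_pow, decide_eq_true_eq] at hb
    rcases hb with (hb | hb) | hb
    · exact hK i g' hi hg' hb
    · obtain ⟨rfl, rfl⟩ := bit_inj (C := C) hg hg' hb
      exact ⟨hy, hed⟩
    · obtain ⟨rfl, rfl⟩ := bit_inj (C := C) hig hg' hb
      rw [hback, ← hed, hiv g hg, inv_smul_smul]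
      exact ⟨hx, rfl⟩
  · simp at h

theorem treeStep_sound (hiv : ∀ g, g < C.ng → gen (C.iv g) = (gen g)⁻¹) {K K' : ℕ} {e : ℕ × ℕ}
    (hK : Good C gen x₀ K) (h : treeStep C K e = some K') : Good C gen x₀ K' := by
  simp only [treeStep] at h
  split at h
  · rename_i hc
    refine mark_sound hiv hK h ?_
    simp only [decide_eq_true_eq] at hc
    simp [pt, hc, act_append, act_cons, mul_smul]
  · simp at h

theorem deduce_sound (hiv : ∀ g, g < C.ng → gen (C.iv g) = (gen g)⁻¹) {K K' i k : ℕ}
    {w : List ℕ} (hK : Good C gen x₀ K)
    (hw : act gen w • pt C gen x₀ i = pt C gen x₀ i) (h : deduce C K i w k = some K') :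
    Good C gen x₀ K' := by
  simp only [deduce] at h
  split at h
  · rename_i x g post hpre hdrop
    split at h
    · rename_i hpost
      refine mark_sound hiv hK h ?_
      have h2 : act gen w • pt C gen x₀ i = act gen post • (gen g • pt C gen x₀ x) := by
        conv_lhs => rw [← List.take_append_drop k w, hdrop]
        rw [act_append, act_cons, mul_smul, mul_smul, walk_sound hK hpre]
      rw [hw, ← walk_sound hK hpost] at h2
      exact ((MulAction.injective (act gen post)) h2).symm
    · simp at h
  · simp at h

theorem runTree_sound (hiv : ∀ g, g < C.ng → gen (C.iv g) = (gen g)⁻¹) :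
    ∀ {l : List (ℕ × ℕ)} {K K' : ℕ}, Good C gen x₀ K → runTree C K l = some K' →
      Good C gen x₀ K'
  | [], K, K', hK, h => by simp only [runTree, Option.some.injEq] at h; exact h ▸ hK
  | e :: l, K, K', hK, h => by
    simp only [runTree] at h
    split at h
    · rename_i K'' hs
      exact runTree_sound hiv (treeStep_sound hiv hK hs) h
    · simp at h

theorem runDed_sound (hiv : ∀ g, g < C.ng → gen (C.iv g) = (gen g)⁻¹)
    (hrel : ∀ w ∈ C.rels, act gen w = 1) (hsub : ∀ w ∈ C.subs, act gen w • x₀ = x₀)
    (h0 : C.rep 0 = []) :
    ∀ {l : List (ℕ × ℕ × ℕ)} {K K' : ℕ}, Good C gen x₀ K → runDed C K l = some K' →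
      Good C gen x₀ K'
  | [], K, K', hK, h => by simp only [runDed, Option.some.injEq] at h; exact h ▸ hK
  | e :: l, K, K', hK, h => by
    simp only [runDed] at h
    split at h
    · rename_i K'' hs
      refine runDed_sound hiv hrel hsub h0 ?_ h
      simp only [dedStep] at hs
      split at hs
      · rename_i w hw
        refine deduce_sound hiv hK ?_ hs
        simp only [word] at hw
        split at hw
        · rw [hrel w (List.mem_of_getElem? hw), one_smul]
        · split at hw
          · rename_i hi
            rw [hi]
            simp only [pt, h0, act_nil, one_smul]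
            exact hsub w (List.mem_of_getElem? hw)
          · simp at hw
      · simp at hs
    · simp at h

theorem check_sound {tree : List (ℕ × ℕ)} {steps : List (ℕ × ℕ × ℕ)}
    (hc : check C tree steps = true)
    (hiv : ∀ g, g < C.ng → gen (C.iv g) = (gen g)⁻¹)
    (hrel : ∀ w ∈ C.rels, act gen w = 1) (hsub : ∀ w ∈ C.subs, act gen w • x₀ = x₀) :
    pt C gen x₀ 0 = x₀ ∧ ∀ i g, i < C.n → g < C.ng →
      C.tbl i g < C.n ∧ gen g • pt C gen x₀ i = pt C gen x₀ (C.tbl i g) := by
  simp only [check] at hc
  split at hc
  · rename_i K hK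
    split at hc
    · rename_i K' hK'
      simp only [Bool.and_eq_true, decide_eq_true_eq] at hc
      have g0 : Good C gen x₀ 0 := by intro i g _ _ h; simp at h
      have g1 := runDed_sound hiv hrel hsub hc.2 (runTree_sound hiv g0 hK) hK'
      refine ⟨by simp [pt, hc.2], fun i g hi hg => g1 i g hi hg ?_⟩
      rw [hc.1, Nat.testBit_two_pow_sub_one]
      apply decide_eq_true
      simp only [bit]
      calc i * C.ng + g < i * C.ng + C.ng := by omega
        _ = (i + 1) * C.ng := by rw [Nat.add_mul, Nat.one_mul]
        _ ≤ C.n * C.ng := Nat.mul_le_mul_right _ hi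
    · simp at hc
  · simp at hc

/-- A word followed through a correct full table. -/
theorem table_act (hT : ∀ i g, i < C.n → g < C.ng →
    C.tbl i g < C.n ∧ gen g • pt C gen x₀ i = pt C gen x₀ (C.tbl i g)) :
    ∀ (w : List ℕ) {i : ℕ}, i < C.n → (∀ g ∈ w, g < C.ng) →
      w.foldl C.tbl i < C.n ∧ act gen w • pt C gen x₀ i = pt C gen x₀ (w.foldl C.tbl i)
  | [], i, hi, _ => by simp [hi]
  | g :: w, i, hi, hw => by
    obtain ⟨h1, h2⟩ := hT i g hi (hw g (by simp))
    rw [List.foldl_cons, act_cons, mul_smul, h2]
    exact table_act hT w h1 fun g' hg' => hw g' (List.mem_cons_of_mem _ hg')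

end Sound

end CfsgLib.CosetCert
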